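import Groth.Agent.H20Torus.Unipotent
import Groth.Agent.H20Red.Scheme

/-!
Smooth connected affine groups without subtorus over an algebraically closed field are unipotent.
-/

set_option autoImplicit false
set_option linter.style.haveILetI false
set_option linter.unusedSectionVars false
set_option backward.isDefEq.respectTransparency false

universe u

open CategoryTheory MonoidalCategory CartesianMonoidalCategory MonObj GrpObj AlgebraicGeometry
open TensorProduct HopfRep

namespace Groth.Agent.H20Torus

noncomputable section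

variable {k : Type u} [Field k] [IsAlgClosed k]

/-- A group scheme without subtorus has unipotent coordinate Hopf algebra. -/
theorem exists_isUnipotent_model (U : Over (Spec (CommRingCat.of k))) [GrpObj U]
    [IsAffine U.left] [ConnectedSpace ↥U.left] [Smooth U.hom] (hU : Red.HasNoSubtorus k U) :
    ∃ (B : Type u) (_ : CommRing B) (_ : HopfAlgebra k B), Algebra.FiniteType k B ∧ IsDomain B ∧
      IsUnipotent k B ∧ Nonempty (Grp.mk U ≅ Grp.mk (H21Hom.specGrp k B)) := by
  obtain ⟨B, _, _, ⟨e⟩⟩ := H21Hom.exists_hopf_model U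
  refine ⟨B, ‹_›, ‹_›, ?_⟩
  let e' : U ≅ H21Hom.specGrp k B := (Grp.forget _).mapIso e
  haveI : IsMonHom e'.inv := e.inv.hom.isMonHom_hom
  haveI : IsIso e'.inv.left := inferInstanceAs (IsIso ((Over.forget _).map e'.inv))
  haveI : Smooth (H21Hom.specGrp k B).hom := by rw [← Over.w e'.inv]; infer_instance
  haveI : LocallyOfFiniteType (H21Hom.specGrp k B).hom := inferInstance
  haveI hft : Algebra.FiniteType k B := by
    have h : (CommRingCat.ofHom (algebraMap k B)).hom.FiniteType :=
      (HasRingHomProperty.Spec_iff (P := @LocallyOfFiniteType)).1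
        (show LocallyOfFiniteType (Spec.map (CommRingCat.ofHom (algebraMap k B))) from ‹_›)
    exact RingHom.finiteType_algebraMap.1 h
  haveI : _root_.IsReduced B := by
    haveI : AlgebraicGeometry.IsReduced (H21Hom.specGrp k B).left :=
      H13AlgSp.isReduced_of_smooth_mor (H21Hom.specGrp k B).hom
    exact (affine_isReduced_iff (CommRingCat.of B)).1 (show AlgebraicGeometry.IsReduced (Spec (CommRingCat.of B)) from ‹_›)
  haveI hc : ConnectedSpace ↥(Spec (CommRingCat.of B)) :=
    (Scheme.Hom.homeomorph e'.inv.left).symm.surjective.connectedSpace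
      (Scheme.Hom.homeomorph e'.inv.left).symm.continuous
  haveI : PreconnectedSpace (PrimeSpectrum B) :=
    inferInstanceAs (PreconnectedSpace ↥(Spec (CommRingCat.of B)))
  haveI hdom : IsDomain B := H20Hopf.Rosenlicht.isDomain (k := k) fun ε hε => by
    rcases isClopen_iff.1 (PrimeSpectrum.isClopen_iff.2 ⟨ε, hε, rfl⟩ :
      IsClopen (PrimeSpectrum.basicOpen ε : Set (PrimeSpectrum B))) with h | h
    · exact Or.inl (PrimeSpectrum.basicOpen_injOn_isIdempotentElem hε IsIdempotentElem.zero
        (SetLike.coe_injective (h.trans (by simp))))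
    · exact Or.inr (PrimeSpectrum.basicOpen_injOn_isIdempotentElem hε IsIdempotentElem.one
        (SetLike.coe_injective (h.trans (by simp))))
  refine ⟨hft, hdom, isUnipotent_of_forall_not_surjective fun φ hφ => ?_, ⟨e⟩⟩
  let w : MonoidAlgebra k (Multiplicative ℤ) ≃ₐc[k] MonoidAlgebra k (Multiplicative (Fin 1 → ℤ)) :=
    MonoidAlgebra.domCongrBialgEquiv k k (AddEquiv.toMultiplicative
      ((LinearEquiv.funUnique (Fin 1) ℤ ℤ).symm.toAddEquiv))
  refine one_ne_zero (H20Red.eq_zero_of_torus_quotient U B e'.inv hU 1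
    ((w : MonoidAlgebra k (Multiplicative ℤ) →ₐc[k] MonoidAlgebra k (Multiplicative (Fin 1 → ℤ))).comp φ) fun y => ?_)
  obtain ⟨x, hx⟩ := w.toEquiv.surjective y
  obtain ⟨a, rfl⟩ := hφ x
  exact ⟨a, hx⟩

end

end Groth.Agent.H20Torus
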