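import Groth.Agent.H20Torus.Scheme
import Groth.Agent.H19Grp.AlgClosedGeom
import Groth.Agent.S6094
import Groth.Prelude.Def_VecGrp
import Groth.Prelude.Def_Par
import Groth.Agent.H20Conj.MaxConv
import Groth.Prelude.Def_W4bk4grossh1223Act

/-!
Unipotent groups have fixed vectors in stable subspaces of rational modules.
-/

set_option autoImplicit false
set_option linter.style.haveILetI false
set_option linter.unusedSectionVars false
set_option backward.isDefEq.respectTransparency false

universe u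

open CategoryTheory MonoidalCategory CartesianMonoidalCategory MonObj AlgebraicGeometry
open scoped TensorProduct
open HopfRep Groth.Agent.H20Comod

namespace Groth.Agent.H20Torus

noncomputable section

variable {k : Type u} [Field k] {G H : Over (Spec (CommRingCat.of k))} [GrpObj G] [GrpObj H]
  {M : Type u} [AddCommGroup M] [Module k M]

attribute [local instance] Hom.group Hom.monoid

/-- Restriction of a rational module along a homomorphism. -/
def restrictAlong (i : H ⟶ G) [IsMonHom i] (m : VecGrp.GMod G M) : VecGrp.GMod H M where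
  ρ B _ _ := (m.ρ B).comp (MonoidHom.mk' (fun h => h ≫ i) fun a b => MonObj.mul_comp a b i)
  naturality φ g x := by
    show VecGrp.Wmap φ (m.ρ _ (g ≫ i) x) = m.ρ _ ((VecGrp.ptMap φ ≫ g) ≫ i) (VecGrp.Wmap φ x)
    rw [m.naturality, Category.assoc]

theorem restrictAlong_apply (i : H ⟶ G) [IsMonHom i] (m : VecGrp.GMod G M) {B : Type u} [CommRing B] [Algebra k B]
    (h : VecGrp.pt k B ⟶ H) (x : VecGrp.W k M B) : (restrictAlong i m).ρ B h x = m.ρ B (h ≫ i) x := rfl

/-- A rational module over an affine group gives a comodule over a Hopf model. -/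
theorem exists_comod {B : Type u} [CommRing B] [HopfAlgebra k B] (e : Grp.mk H ≅ Grp.mk (H21Hom.specGrp k B))
    (m : VecGrp.GMod H M) :
    ∃ (c : Comod k B M), (∀ (R : Type u) [CommRing R] [Algebra k R] (h : VecGrp.pt k R ⟶ H), ∃ f : B →ₐ[k] R,
      ∀ x : M, m.ρ R h ((1 : R) ⊗ₜ[k] x) = TensorProduct.comm k M R (f.toLinearMap.lTensor M (c.coact x))) ∧
      ∀ (R : Type u) [CommRing R] [Algebra k R] (f : B →ₐ[k] R), ∃ h : VecGrp.pt k R ⟶ H,
        ∀ x : M, m.ρ R h ((1 : R) ⊗ₜ[k] x) = TensorProduct.comm k M R (f.toLinearMap.lTensor M (c.coact x)) := by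
  let e' : H ≅ H21Hom.specGrp k B := (Grp.forget _).mapIso e
  haveI : IsMonHom e'.inv := e.inv.hom.isMonHom_hom
  obtain ⟨δ, ⟨⟨hco, hcu⟩, hδ⟩, -⟩ := (S6094.result k B M).2 (restrictAlong e'.inv m)
  refine ⟨{ coact := δ, coassoc := hco, counit_comp := hcu }, fun R _ _ h => ?_, fun R _ _ f => ?_⟩
  · refine ⟨(Spec.mapMulEquiv.symm (h ≫ e'.hom)).ofConv, fun x => ?_⟩
    refine Eq.trans ?_ (hδ R (h ≫ e'.hom) x)
    rw [restrictAlong_apply, Category.assoc, e'.hom_inv_id, Category.comp_id]
  · refine ⟨Spec.mapMulEquiv (WithConv.toConv f) ≫ e'.inv, fun x => ?_⟩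
    rw [← restrictAlong_apply e'.inv m, hδ, MulEquiv.symm_apply_apply]
    rfl

variable {B : Type u} [CommRing B] [HopfAlgebra k B] [Comod k B M]

/-- A unipotent group fixes a nonzero vector of every nonzero stable subspace. -/
theorem exists_fixed_of_isUnipotent (hB : IsUnipotent k B) {W : Submodule k M}
    (hW : IsSubcomod (k := k) (A := B) W) (hne : W ≠ ⊥) :
    ∃ x ∈ W, x ≠ 0 ∧ Comod.coact (k := k) (A := B) x = x ⊗ₜ[k] (1 : B) := by
  obtain ⟨x, hx, hx0⟩ := (Submodule.ne_bot_iff W).1 hne
  let N := gen k B ({x} : Set M)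
  have hN : IsSubcomod (k := k) (A := B) N := isSubcomod_gen _
  haveI : Module.Finite k N := finite_gen (Set.finite_singleton x)
  haveI : Nontrivial N := ⟨⟨⟨x, subset_gen _ rfl⟩, 0, fun h => hx0 (congrArg Subtype.val h)⟩⟩
  letI := ComodSub.Comod.restr (inferInstance : Comod k B M) N hN
  obtain ⟨y, hy, hy0⟩ := (Submodule.ne_bot_iff _).1 (hB N ‹_› ‹_›)
  refine ⟨y, gen_le hW (Set.singleton_subset_iff.2 hx) y.2, fun h => hy0 (Subtype.ext h), ?_⟩
  rw [← ComodSub.restr_coact_coe (inferInstance : Comod k B M) N hN y]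
  rw [show Comod.coact (k := k) (A := B) y = y ⊗ₜ[k] (1 : B) from hy, LinearMap.rTensor_tmul]
  rfl

variable [IsAlgClosed k]

/-- A smooth connected affine group without subtorus fixes a vector in every nonzero stable subspace. -/
theorem exists_fixed [IsAffine H.left] [ConnectedSpace ↥H.left] [Smooth H.hom] (hH : Red.HasNoSubtorus k H)
    (m : VecGrp.GMod H M) {W : Submodule k M} (hne : W ≠ ⊥)
    (hW : ∀ (B : Type u) [CommRing B] [IsDomain B] [Algebra k B] [Algebra.FiniteType k B] (h : VecGrp.pt k B ⟶ H),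
      (∃ φ : B →ₐ[k] k, ∀ x : M, VecGrp.Wmap φ (m.ρ B h ((1 : B) ⊗ₜ[k] x)) = (1 : k) ⊗ₜ[k] x) →
        ∀ x ∈ W, m.ρ B h ((1 : B) ⊗ₜ[k] x) ∈ W.baseChange B) :
    ∃ x ∈ W, x ≠ 0 ∧ ∀ (R : Type u) [CommRing R] [Algebra k R] (h : VecGrp.pt k R ⟶ H),
      m.ρ R h ((1 : R) ⊗ₜ[k] x) = (1 : R) ⊗ₜ[k] x := by
  obtain ⟨B, _, _, hft, hdom, hB, ⟨e⟩⟩ := exists_isUnipotent_model H hH
  obtain ⟨c, hc, hc'⟩ := exists_comod e m
  letI := c
  have hsub : IsSubcomod (k := k) (A := B) W := by
    intro x hx
    obtain ⟨h, hh⟩ := hc' B (AlgHom.id k B)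
    have h1 := hW B h ⟨Bialgebra.counitAlgHom k B, fun y => by
      rw [hh y, AlgHom.toLinearMap_id, LinearMap.lTensor_id, LinearMap.id_apply]
      have h2 : (CoalgebraStruct.counit (R := k) (A := B)).lTensor M (c.coact y) = y ⊗ₜ[k] (1 : k) :=
        LinearMap.congr_fun c.counit_comp y
      have h3 : ∀ w : M ⊗[k] B, VecGrp.Wmap (Bialgebra.counitAlgHom k B) (TensorProduct.comm k M B w) =
          TensorProduct.comm k M k ((CoalgebraStruct.counit (R := k) (A := B)).lTensor M w) := by
        intro w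
        induction w using TensorProduct.induction_on with
        | zero => simp
        | tmul v b => simp
        | add u v hu hv => simp only [map_add, hu, hv]
      rw [h3, h2, TensorProduct.comm_tmul]⟩ x hx
    rw [hh x, AlgHom.toLinearMap_id, LinearMap.lTensor_id, LinearMap.id_apply] at h1
    obtain ⟨z, hz⟩ := h1
    refine ⟨TensorProduct.comm k B W z, ?_⟩
    apply (TensorProduct.comm k M B).injective
    rw [← hz]
    clear hz
    induction z using TensorProduct.induction_on with
    | zero => simp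
    | tmul b w => simp
    | add u v hu hv => simp only [map_add, hu, hv]
  obtain ⟨x, hx, hx0, hfix⟩ := exists_fixed_of_isUnipotent hB hsub hne
  refine ⟨x, hx, hx0, fun R _ _ h => ?_⟩
  obtain ⟨f, hf⟩ := hc R h
  rw [hf x, hfix]
  simp

/-- Over an algebraically closed field the unipotent radical of a group over the field has no subtorus. -/
theorem hasNoSubtorus_of_isUnipotentRadical {U P : Over (Spec (CommRingCat.of k))} [GrpObj U] [GrpObj P]
    {u : U ⟶ P} (hU : Par.IsUnipotentRadical u) :
    ConnectedSpace ↥U.left ∧ Red.HasNoSubtorus k U := by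
  obtain ⟨-, -, -, -, -, hfib, -⟩ := hU
  let s : ↥(Spec (CommRingCat.of k)) := (IsLocalRing.closedPoint k : PrimeSpectrum k)
  haveI := H20Conj.isIso_geomPt (k := k) s
  let v := Red.geomPt s
  obtain ⟨hconn, hns⟩ := hfib s
  haveI : ConnectedSpace ↥(Limits.pullback U.hom v) := hconn
  haveI hfst : IsIso (Limits.pullback.fst U.hom v) := inferInstance
  refine ⟨(Scheme.Hom.homeomorph (Limits.pullback.fst U.hom v)).surjective.connectedSpace
    (Scheme.Hom.homeomorph (Limits.pullback.fst U.hom v)).continuous, fun T _ j _ _ hT => ?_⟩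
  haveI : IsMonHom ((Over.pullback v).map j) := H21Diag.isMonHom_bcMap v j
  haveI : Mono ((Over.pullback v).map j) := inferInstance
  have h := hns (Red.bc v T) ((Over.pullback v).map j) (H20Conj.isTorus_bc_of_isIso v hT)
  haveI : IsIso (Limits.pullback.snd T.hom v) := h
  show IsIso T.hom
  rw [show T.hom = inv (Limits.pullback.fst T.hom v) ≫ Limits.pullback.snd T.hom v ≫ v by
    rw [← Limits.pullback.condition, IsIso.inv_hom_id_assoc]]
  infer_instance

section Slices

variable {B : Type u} [CommRing B] [Algebra k B] {A : Type u} [CommRing A] [Algebra k A]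

omit [IsAlgClosed k] in
/-- An element of `B ⊗ M` whose slices lie in `W` lies in `B ⊗ W`. -/
theorem mem_baseChange_of_forall_slice {W : Submodule k M} {z : B ⊗[k] M}
    (h : ∀ ℓ : B →ₗ[k] k, TensorProduct.lid k M (ℓ.rTensor M z) ∈ W) : z ∈ W.baseChange B := by
  let b := Module.Free.chooseBasis k B
  obtain ⟨c, rfl⟩ := TensorProduct.eq_repr_basis_left b z
  refine Submodule.sum_mem _ fun i _ => Submodule.tmul_mem_baseChange_of_mem _ ?_
  have := h (b.coord i)
  simp only [Finsupp.sum, map_sum, LinearMap.rTensor_tmul, TensorProduct.lid_tmul, Module.Basis.coord_apply,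
    Module.Basis.repr_self, Finsupp.single_apply, ite_smul, one_smul, zero_smul] at this
  rw [Finset.sum_ite_eq'] at this
  simpa [‹i ∈ c.support›] using this

omit [IsAlgClosed k] in
theorem slice_mul_one_tmul (ℓ : B →ₗ[k] k) (z : B ⊗[k] A) (a : A) :
    TensorProduct.lid k A (ℓ.rTensor A (z * ((1 : B) ⊗ₜ[k] a))) = TensorProduct.lid k A (ℓ.rTensor A z) * a := by
  induction z using TensorProduct.induction_on with
  | zero => simp
  | tmul p q => simp
  | add u v hu hv => simp only [add_mul, map_add, hu, hv]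

omit [IsAlgClosed k] in
theorem Wmap_mul {B' : Type u} [CommRing B'] [Algebra k B'] (φ : B →ₐ[k] B') (z w : B ⊗[k] A) :
    VecGrp.Wmap (M := A) φ (z * w) = VecGrp.Wmap (M := A) φ z * VecGrp.Wmap (M := A) φ w := by
  have h : ∀ t : B ⊗[k] A, VecGrp.Wmap (M := A) φ t = Algebra.TensorProduct.map φ (AlgHom.id k A) t := by
    intro t
    induction t using TensorProduct.induction_on with
    | zero => simp
    | tmul p q => simp
    | add u v hu hv => simp only [map_add, hu, hv]
  rw [h, h, h, map_mul]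

end Slices

end

end Groth.Agent.H20Torus
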