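import Groth.Agent.H20FF.SubHopf
import Groth.Agent.H20Comod.DualMod
import Groth.Agent.H20Comod.Slices
import Mathlib

/-!
An affine group without a closed `𝔾ₘ` has uniformly bounded diagonalisable elements.

If `g` is diagonal in some basis with eigenvalues `t`, the equations of the group restricted to the diagonal matrices
vanish on all powers of `t`; by independence of characters they vanish on the subgroup cut out by the monomial relations
satisfied by `t`, whose exponents lie in a fixed finite set.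
-/

set_option autoImplicit false
set_option linter.style.haveILetI false
set_option linter.unusedSectionVars false

universe u

open TensorProduct HopfRep
open Groth.Agent.H20Comod

namespace Groth.Agent.H20Torus

noncomputable section

/-- Either the standard vectors are torsion modulo a lattice, or some surjective functional kills it. -/
theorem exists_pow_or_functional (N : ℕ) (L : Submodule ℤ (Fin N → ℤ)) :
    (∃ e : ℕ, 0 < e ∧ ∀ i, (e : ℤ) • (Pi.single i 1 : Fin N → ℤ) ∈ L) ∨
      ∃ φ : (Fin N → ℤ) →ₗ[ℤ] ℤ, (∀ d ∈ L, φ d = 0) ∧ ∃ d, φ d = 1 := by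
  classical
  let Q := (Fin N → ℤ) ⧸ L
  let T : Submodule ℤ Q := Submodule.torsion ℤ Q
  haveI : Module.IsTorsionFree ℤ (Q ⧸ T) := inferInstance
  haveI : Module.Free ℤ (Q ⧸ T) := Module.free_of_finite_type_torsion_free'
  let b := Module.Free.chooseBasis ℤ (Q ⧸ T)
  cases isEmpty_or_nonempty (Module.Free.ChooseBasisIndex ℤ (Q ⧸ T)) with
  | inl h =>
    haveI : Subsingleton (Q ⧸ T) := b.repr.toEquiv.subsingleton
    have htor : ∀ i, ∃ a : ℤ, a ≠ 0 ∧ a • (Pi.single i 1 : Fin N → ℤ) ∈ L := by
      intro i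
      have hm : L.mkQ (Pi.single i 1) ∈ T := (Submodule.Quotient.mk_eq_zero T).1 (Subsingleton.elim _ _)
      obtain ⟨a, ha⟩ := (Submodule.mem_torsion_iff _).1 hm
      refine ⟨(a : ℤ), nonZeroDivisors.ne_zero a.2, ?_⟩
      rw [← Submodule.Quotient.mk_eq_zero L, Submodule.Quotient.mk_smul]
      exact ha
    choose a ha0 ha using htor
    refine Or.inl ⟨∏ i, (a i).natAbs, Finset.prod_pos fun i _ => Int.natAbs_pos.2 (ha0 i), fun i => ?_⟩
    obtain ⟨c, hc⟩ : a i ∣ ((∏ j, (a j).natAbs : ℕ) : ℤ) :=
      (Int.dvd_natAbs.2 dvd_rfl).trans (Int.natCast_dvd_natCast.2 (Finset.dvd_prod_of_mem _ (Finset.mem_univ i)))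
    rw [hc, mul_comm, mul_smul]
    exact L.smul_mem c (ha i)
  | inr h =>
    obtain ⟨j⟩ := h
    obtain ⟨y, hy⟩ := T.mkQ_surjective (b j)
    obtain ⟨x, rfl⟩ := L.mkQ_surjective y
    refine Or.inr ⟨b.coord j ∘ₗ T.mkQ ∘ₗ L.mkQ, fun d hd => ?_, x, ?_⟩
    · rw [LinearMap.comp_apply, LinearMap.comp_apply, show L.mkQ d = 0 from (Submodule.Quotient.mk_eq_zero L).2 hd,
        map_zero, map_zero]
    · rw [LinearMap.comp_apply, LinearMap.comp_apply, hy, Module.Basis.coord_apply, Module.Basis.repr_self,
        Finsupp.single_eq_same]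

/-- A polynomial vanishing on all powers of a point vanishes wherever the monomial relations of the point hold. -/
theorem aeval_eq_zero_of_forall_pow {k R : Type*} [Field k] [CommRing R] [Algebra k R] {σ : Type*} [Fintype σ]
    (q : MvPolynomial σ k) (t : σ → k) (hq : ∀ n : ℕ, MvPolynomial.eval (fun i => t i ^ n) q = 0) (u : σ → R)
    (hu : ∀ m ∈ q.support, ∀ m' ∈ q.support, ∏ i, t i ^ (m i) = ∏ i, t i ^ (m' i) →
      ∏ i, u i ^ (m i) = ∏ i, u i ^ (m' i)) :
    MvPolynomial.aeval u q = 0 := by
  classical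
  let v : (σ →₀ ℕ) → k := fun m => ∏ i, t i ^ (m i)
  let V := q.support.image v
  let c : k → k := fun a => ∑ m ∈ q.support.filter (fun m => v m = a), q.coeff m
  have hinj : Function.Injective fun a : k => ((powersHom k a : Multiplicative ℕ →* k)) := fun a b hab => by
    simpa using DFunLike.congr_fun hab (Multiplicative.ofAdd 1)
  have hli := (linearIndependent_monoidHom (Multiplicative ℕ) k).comp _ hinj
  have hsum : ∑ a ∈ V, c a • (⇑(powersHom k a : Multiplicative ℕ →* k) : Multiplicative ℕ → k) = 0 := by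
    funext n
    rw [Finset.sum_apply, Pi.zero_apply, ← hq n.toAdd, MvPolynomial.eval_eq']
    rw [← Finset.sum_fiberwise_of_maps_to (g := v) (t := V) (fun m hm => Finset.mem_image_of_mem v hm)]
    refine Finset.sum_congr rfl fun a _ => ?_
    rw [Pi.smul_apply, smul_eq_mul, Finset.sum_mul]
    refine Finset.sum_congr rfl fun m hm => ?_
    rw [powersHom_apply, ← (Finset.mem_filter.1 hm).2]
    simp only [v, ← Finset.prod_pow, ← pow_mul]
    simp_rw [mul_comm]
  have hc := linearIndependent_iff'.1 hli V c hsum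
  rw [MvPolynomial.aeval_def, MvPolynomial.eval₂_eq',
    ← Finset.sum_fiberwise_of_maps_to (g := v) (t := V) (fun m hm => Finset.mem_image_of_mem v hm)]
  refine Finset.sum_eq_zero fun a ha => ?_
  obtain ⟨m₀, hm₀, rfl⟩ := Finset.mem_image.1 ha
  have h1 : ∀ m ∈ q.support.filter (fun m => v m = v m₀),
      algebraMap k R (q.coeff m) * ∏ i, u i ^ (m i) = algebraMap k R (q.coeff m) * ∏ i, u i ^ (m₀ i) := fun m hm => by
    rw [hu m (Finset.mem_filter.1 hm).1 m₀ hm₀ (Finset.mem_filter.1 hm).2]
  rw [Finset.sum_congr rfl h1, ← Finset.sum_mul, ← map_sum]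
  rw [show ∑ m ∈ q.support.filter (fun m => v m = v m₀), q.coeff m = 0 from hc (v m₀) ha, map_zero, zero_mul]

variable {k : Type u} [Field k] {A : Type u} [CommRing A] [HopfAlgebra k A]

/-- A matrix of functions describing a homomorphism to `GL_N` whose entries generate the algebra. -/
structure GenMatrix (N : ℕ) (C : Matrix (Fin N) (Fin N) A) : Prop where
  comul : ∀ i j, CoalgebraStruct.comul (R := k) (C i j) = ∑ l, C i l ⊗ₜ[k] C l j
  counit : ∀ i j, CoalgebraStruct.counit (R := k) (C i j) = if i = j then 1 else 0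
  adjoin : Algebra.adjoin k (Set.range fun p : Fin N × Fin N => C p.1 p.2) = ⊤

/-- A finitely generated Hopf algebra has a comodule whose coefficients generate it. -/
theorem exists_genMatrix [Algebra.FiniteType k A] :
    ∃ (V : Type u) (_ : AddCommGroup V) (_ : Module k V) (_ : Comod k A V) (_ : Module.Finite k V) (N : ℕ)
      (b : Module.Basis (Fin N) k V),
      GenMatrix (k := k) N (Matrix.of fun i j => sliceL (b.coord i) (Comod.coact (k := k) (A := A) (b j))) := by
  classical
  obtain ⟨S, hS⟩ := (inferInstance : Algebra.FiniteType k A).out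
  obtain ⟨W, hW, hSW, hsub⟩ := exists_finite_subcomod (k := k) (A := A) (V := A) S.finite_toSet
  letI cW := ComodSub.Comod.restr (inferInstance : Comod k A A) W hsub
  let b := Module.finBasis k W
  refine ⟨W, inferInstance, inferInstance, cW, hW, _, b, ⟨fun i j => ?_, fun i j => ?_, ?_⟩⟩
  · exact comul_coeff_basis b i j
  · exact counit_coeff_basis b i j
  · rw [eq_top_iff, ← hS, Algebra.adjoin_le_iff]
    intro s hs
    let w : W := ⟨s, hSW hs⟩
    have hw : sliceL ((CoalgebraStruct.counit (R := k) (A := A)) ∘ₗ W.subtype) (cW.coact w) = s := by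
      rw [← sliceL_rTensor, ComodSub.restr_coact_coe (inferInstance : Comod k A A) W hsub w]
      exact coeff_counit (k := k) s
    have hmem : sliceL ((CoalgebraStruct.counit (R := k) (A := A)) ∘ₗ W.subtype) (cW.coact w) ∈
        Submodule.span k (Set.range fun p : _ × _ =>
          sliceL (b.coord p.1) (Comod.coact (k := k) (A := A) (b p.2))) := by
      rw [← coeffs_eq_span_basis b]
      exact Submodule.subset_span ⟨_, _, rfl⟩
    rw [hw] at hmem
    exact (Algebra.span_le_adjoin k _) hmem

variable {N : ℕ} {C : Matrix (Fin N) (Fin N) A}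

theorem GenMatrix.map_conv (hC : GenMatrix (k := k) N C) (g h : WithConv (A →ₐ[k] k)) :
    C.map (g * h).ofConv = C.map g.ofConv * C.map h.ofConv := by
  refine Matrix.ext fun i j => ?_
  rw [Matrix.map_apply, AlgHom.convMul_apply, hC.comul, map_sum, Matrix.mul_apply]
  exact Finset.sum_congr rfl fun l _ => rfl

theorem GenMatrix.map_counit (hC : GenMatrix (k := k) N C) : C.map (1 : WithConv (A →ₐ[k] k)).ofConv = 1 := by
  refine Matrix.ext fun i j => ?_
  rw [Matrix.map_apply, AlgHom.convOne_def, Matrix.one_apply]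
  show algebraMap k k (CoalgebraStruct.counit (R := k) (C i j)) = _
  rw [hC.counit]
  split_ifs <;> simp

theorem GenMatrix.map_conv_pow (hC : GenMatrix (k := k) N C) (g : WithConv (A →ₐ[k] k)) :
    ∀ n : ℕ, C.map (g ^ n).ofConv = C.map g.ofConv ^ n
  | 0 => by rw [pow_zero, pow_zero, hC.map_counit]
  | n + 1 => by rw [pow_succ, pow_succ, hC.map_conv, hC.map_conv_pow g n]

/-- A one-parameter family of matrices satisfying the equations gives a closed `𝔾ₘ`. -/
theorem GenMatrix.exists_surjective_Gm (hC : GenMatrix (k := k) N C)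
    {P Q : Matrix (Fin N) (Fin N) k} (hQP : Q * P = 1) (lam : Fin N → ℤ)
    (hlam : ∃ d : Fin N → ℤ, ∑ i, d i * lam i = 1)
    (ψ : A →ₐ[k] MonoidAlgebra k (Multiplicative ℤ))
    (hψ : C.map ψ = P.map (algebraMap k (MonoidAlgebra k (Multiplicative ℤ))) *
        Matrix.diagonal (fun i => MonoidAlgebra.single (Multiplicative.ofAdd (lam i)) (1 : k)) *
      Q.map (algebraMap k (MonoidAlgebra k (Multiplicative ℤ)))) :
    ∃ φ : A →ₐc[k] MonoidAlgebra k (Multiplicative ℤ), Function.Surjective φ := by
  classical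
  let R := MonoidAlgebra k (Multiplicative ℤ)
  let u : Fin N → R := fun i => MonoidAlgebra.single (Multiplicative.ofAdd (lam i)) (1 : k)
  have hPQ : P * Q = 1 := mul_eq_one_comm.1 hQP
  have hent : ∀ i j, ψ (C i j) =
      (P.map (algebraMap k R) * Matrix.diagonal u * Q.map (algebraMap k R)) i j := fun i j =>
    congrFun (congrFun hψ i) j
  have hc : (Bialgebra.counitAlgHom k R).comp ψ = Bialgebra.counitAlgHom k A :=
    AlgHom.ext_of_adjoin_eq_top hC.adjoin fun x hx => by
      obtain ⟨⟨i, j⟩, rfl⟩ := hx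
      show Bialgebra.counitAlgHom k R (ψ (C i j)) = CoalgebraStruct.counit (R := k) (C i j)
      rw [hent, hC.counit, ← Matrix.one_apply, ← hPQ]
      simp only [Matrix.mul_apply, Matrix.map_apply, Matrix.diagonal_apply, mul_ite, mul_zero,
        Finset.sum_ite_eq', Finset.mem_univ, if_true, map_sum, map_mul, AlgHom.commutes, Algebra.algebraMap_self,
        RingHom.id_apply]
      refine Finset.sum_congr rfl fun l _ => ?_
      rw [show Bialgebra.counitAlgHom k R (u l) = 1 by simp [u, R], mul_one]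
  have hΔ : (Algebra.TensorProduct.map ψ ψ).comp (Bialgebra.comulAlgHom k A) = (Bialgebra.comulAlgHom k R).comp ψ :=
    AlgHom.ext_of_adjoin_eq_top hC.adjoin fun x hx => by
      obtain ⟨⟨i, j⟩, rfl⟩ := hx
      let iL : R →ₐ[k] R ⊗[k] R := Algebra.TensorProduct.includeLeft
      let iR : R →ₐ[k] R ⊗[k] R := Algebra.TensorProduct.includeRight
      let MR := P.map (algebraMap k R) * Matrix.diagonal u * Q.map (algebraMap k R)
      have hl : Algebra.TensorProduct.map ψ ψ (CoalgebraStruct.comul (R := k) (C i j)) =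
          (MR.map iL * MR.map iR) i j := by
        rw [hC.comul, map_sum, Matrix.mul_apply]
        refine Finset.sum_congr rfl fun l _ => ?_
        rw [Algebra.TensorProduct.map_tmul, hent, hent, Matrix.map_apply, Matrix.map_apply]
        simp [iL, iR, MR, Algebra.TensorProduct.tmul_mul_tmul]
      show Algebra.TensorProduct.map ψ ψ (CoalgebraStruct.comul (R := k) (C i j)) =
        Bialgebra.comulAlgHom k R (ψ (C i j))
      rw [hl, hent]
      show (MR.map iL * MR.map iR) i j = (MR.map (Bialgebra.comulAlgHom k R)) i j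
      congr 2
      have hsc : ∀ (F : R →ₐ[k] R ⊗[k] R) (X : Matrix (Fin N) (Fin N) k),
          (X.map (algebraMap k R)).map F = X.map (algebraMap k (R ⊗[k] R)) := fun F X =>
        Matrix.ext fun a b => F.commutes _
      have hdiag : (Matrix.diagonal u).map iL * (Matrix.diagonal u).map iR =
          (Matrix.diagonal u).map (Bialgebra.comulAlgHom k R) := by
        rw [Matrix.diagonal_map (map_zero _), Matrix.diagonal_map (map_zero _), Matrix.diagonal_map (map_zero _),
          Matrix.diagonal_mul_diagonal]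
        congr 1
        funext l
        simp [iL, iR, u, R, Algebra.TensorProduct.tmul_mul_tmul]
      have hone : Q.map (algebraMap k (R ⊗[k] R)) * P.map (algebraMap k (R ⊗[k] R)) = 1 := by
        rw [← Matrix.map_mul, hQP, Matrix.map_one _ (map_zero _) (map_one _)]
      simp only [MR, Matrix.map_mul, hsc]
      rw [← hdiag]
      simp only [Matrix.mul_assoc]
      rw [← Matrix.mul_assoc (Q.map _) (P.map _), hone, Matrix.one_mul]
  let Φ : A →ₐc[k] R := BialgHom.ofAlgHom ψ hc hΔ
  refine ⟨Φ, fun r => ?_⟩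
  have hu : ∀ l, u l ∈ ψ.range := by
    intro l
    have h1 : Q.map (algebraMap k R) * P.map (algebraMap k R) = 1 := by
      rw [← Matrix.map_mul, hQP, Matrix.map_one _ (map_zero _) (map_one _)]
    have e : Q.map (algebraMap k R) * C.map ψ * P.map (algebraMap k R) = Matrix.diagonal u := by
      rw [hψ, show Q.map (algebraMap k R) * (P.map (algebraMap k R) * Matrix.diagonal u * Q.map (algebraMap k R)) *
          P.map (algebraMap k R) = (Q.map (algebraMap k R) * P.map (algebraMap k R)) * Matrix.diagonal u *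
          (Q.map (algebraMap k R) * P.map (algebraMap k R)) by simp only [Matrix.mul_assoc],
        h1, Matrix.one_mul, Matrix.mul_one]
    rw [← Matrix.diagonal_apply_eq u l, ← e]
    simp only [Matrix.mul_apply, Matrix.map_apply]
    exact Subalgebra.sum_mem _ fun a _ => mul_mem (Subalgebra.sum_mem _ fun b _ =>
      mul_mem (ψ.range.algebraMap_mem _) ⟨C b a, rfl⟩) (ψ.range.algebraMap_mem _)
  let em : ℤ → R := fun z => MonoidAlgebra.single (Multiplicative.ofAdd z) 1
  have hem : ∀ a b, em (a + b) = em a * em b := fun a b => by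
    simp only [em, ofAdd_add]
    rw [MonoidAlgebra.single_mul_single, mul_one]
  have hem0 : em 0 = 1 := by simp only [em, ofAdd_zero]; exact MonoidAlgebra.one_def.symm
  let Z : AddSubgroup ℤ :=
    { carrier := {z | em z ∈ ψ.range ∧ em (-z) ∈ ψ.range}
      add_mem' := fun {a b} ha hb => ⟨by rw [hem]; exact mul_mem ha.1 hb.1,
        by rw [neg_add, hem]; exact mul_mem ha.2 hb.2⟩
      zero_mem' := ⟨by rw [hem0]; exact one_mem _, by rw [neg_zero, hem0]; exact one_mem _⟩
      neg_mem' := fun {a} ha => ⟨ha.2, by rw [neg_neg]; exact ha.1⟩ }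
  have hlamZ : ∀ l, lam l ∈ Z := fun l => ⟨hu l, by
    obtain ⟨a, ha⟩ := hu l
    refine ⟨HopfAlgebra.antipode k a, ?_⟩
    show Φ (HopfAlgebra.antipode k a) = _
    rw [H20FF.map_antipode Φ a, show Φ a = u l from ha]
    simp [u, em, R]⟩
  have h1Z : (1 : ℤ) ∈ Z := by
    obtain ⟨d, hd⟩ := hlam
    rw [← hd]
    exact AddSubgroup.sum_mem _ fun l _ => by
      rw [← smul_eq_mul]
      exact AddSubgroup.zsmul_mem _ (hlamZ l) _
  show r ∈ ψ.range
  induction r using MonoidAlgebra.induction_linear with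
  | zero => exact zero_mem _
  | add u v hu hv => exact add_mem hu hv
  | single m c =>
    have hz : m.toAdd ∈ Z := by
      have := AddSubgroup.zsmul_mem _ h1Z m.toAdd
      rwa [zsmul_one, Int.cast_id] at this
    have := ψ.range.smul_mem hz.1 c
    simpa [em] using this

/-- The relations of a point among finitely many monomials either bound its order or leave a functional. -/
theorem pow_eq_one_of_mem {σ : Type*} [Fintype σ] [DecidableEq σ] {t : σ → k} (ht : ∀ i, t i ≠ 0)
    (R : Set ((σ →₀ ℕ) × (σ →₀ ℕ))) (hR : ∀ m ∈ R, ∏ i, t i ^ (m.1 i) = ∏ i, t i ^ (m.2 i)) (e : ℕ) (i : σ)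
    (he : (e : ℤ) • (Pi.single i 1 : σ → ℤ) ∈
      Submodule.span ℤ ((fun m => fun j => (m.1 j : ℤ) - (m.2 j : ℤ)) '' R)) :
    t i ^ e = 1 := by
  let P : Submodule ℤ (σ → ℤ) :=
    { carrier := {d | ∏ j, t j ^ d j = 1}
      add_mem' := fun {a b} ha hb => by
        show ∏ j, t j ^ (a j + b j) = 1
        simp only [zpow_add₀ (ht _), Finset.prod_mul_distrib]
        rw [show (∏ j, t j ^ a j) = 1 from ha, show (∏ j, t j ^ b j) = 1 from hb, mul_one]
      zero_mem' := by simp
      smul_mem' := fun c a ha => by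
        show ∏ j, t j ^ (c * a j) = 1
        simp only [mul_comm c, zpow_mul, Finset.prod_zpow]
        rw [show (∏ j, t j ^ a j) = 1 from ha, one_zpow] }
  have hle : Submodule.span ℤ ((fun m => fun j => (m.1 j : ℤ) - (m.2 j : ℤ)) '' R) ≤ P := by
    refine Submodule.span_le.2 ?_
    rintro _ ⟨m, hm, rfl⟩
    show ∏ j, t j ^ ((m.1 j : ℤ) - (m.2 j : ℤ)) = 1
    simp only [zpow_sub₀ (ht _), zpow_natCast, Finset.prod_div_distrib, hR m hm]
    exact div_self (Finset.prod_ne_zero_iff.2 fun j _ => pow_ne_zero _ (ht j))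
  have h := hle he
  change ∏ j, t j ^ (((e : ℤ) • (Pi.single i 1 : σ → ℤ)) j) = 1 at h
  rw [Finset.prod_eq_single i (fun j _ hj => by simp [hj]) (fun h => absurd (Finset.mem_univ i) h)] at h
  simpa using h

/-- The universal equations on conjugates of diagonal matrices, specialised. -/
theorem aeval_specialise {S : Type u} [CommRing S] [Algebra k S] (P Q : Matrix (Fin N) (Fin N) k) (w : Fin N → S)
    (f : MvPolynomial (Fin N × Fin N) k) :
    MvPolynomial.aeval w (MvPolynomial.mapAlgHom (σ := Fin N)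
        (MvPolynomial.aeval (Sum.elim (fun p => P p.1 p.2) fun p => Q p.1 p.2) :
          MvPolynomial ((Fin N × Fin N) ⊕ (Fin N × Fin N)) k →ₐ[k] k)
        ((MvPolynomial.aeval fun p : Fin N × Fin N => ∑ l,
          MvPolynomial.C (MvPolynomial.X (Sum.inl (p.1, l))) * MvPolynomial.X l *
            MvPolynomial.C (MvPolynomial.X (Sum.inr (l, p.2))) :
          MvPolynomial (Fin N × Fin N) k →ₐ[k] MvPolynomial (Fin N) (MvPolynomial ((Fin N × Fin N) ⊕ (Fin N × Fin N)) k)) f)) =
      MvPolynomial.aeval (fun p : Fin N × Fin N =>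
        (P.map (algebraMap k S) * Matrix.diagonal w * Q.map (algebraMap k S)) p.1 p.2) f := by
  rw [← AlgHom.comp_apply, ← AlgHom.comp_apply]
  congr 1
  refine MvPolynomial.algHom_ext fun p => ?_
  simp only [AlgHom.comp_apply, MvPolynomial.aeval_X, map_sum, map_mul, MvPolynomial.mapAlgHom_apply,
    Matrix.mul_apply, Matrix.map_apply, Matrix.diagonal_apply, mul_ite, mul_zero, Finset.sum_ite_eq',
    Finset.mem_univ, if_true]
  refine Finset.sum_congr rfl fun l _ => ?_
  simp [MvPolynomial.aeval_X]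

/-- Monomials in a one-parameter family. -/
theorem prod_single_pow (lam : Fin N → ℤ) (m : Fin N →₀ ℕ) :
    ∏ i, (MonoidAlgebra.single (Multiplicative.ofAdd (lam i)) (1 : k) : MonoidAlgebra k (Multiplicative ℤ)) ^ (m i) =
      MonoidAlgebra.single (Multiplicative.ofAdd (∑ i, (m i : ℤ) * lam i)) (1 : k) := by
  induction (Finset.univ : Finset (Fin N)) using Finset.induction with
  | empty => simp only [Finset.prod_empty, Finset.sum_empty, ofAdd_zero]; exact MonoidAlgebra.one_def
  | insert a s ha ih =>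
    rw [Finset.prod_insert ha, Finset.sum_insert ha, ih, MonoidAlgebra.single_pow, MonoidAlgebra.single_mul_single,
      one_pow, mul_one, ofAdd_add, ← ofAdd_nsmul, nsmul_eq_mul]

/-- An algebra map killing the kernel of a surjection factors through it. -/
theorem exists_factor_of_surjective {B S R : Type*} [CommRing B] [Algebra k B] [CommRing S] [Algebra k S]
    [CommRing R] [Algebra k R] (π : B →ₐ[k] S) (hπ : Function.Surjective π) (f : B →ₐ[k] R)
    (hker : RingHom.ker π ≤ RingHom.ker f) : ∃ ψ : S →ₐ[k] R, ∀ x, ψ (π x) = f x := by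
  refine ⟨(Ideal.Quotient.liftₐ (RingHom.ker π) f fun a ha => hker ha).comp
    (Ideal.quotientKerAlgEquivOfSurjective hπ).symm.toAlgHom, fun x => ?_⟩
  show Ideal.Quotient.liftₐ (RingHom.ker π) f (fun a ha => hker ha) ((Ideal.quotientKerAlgEquivOfSurjective hπ).symm (π x)) = _
  rw [show (Ideal.quotientKerAlgEquivOfSurjective hπ).symm (π x) = Ideal.Quotient.mk _ x from
    (Ideal.quotientKerAlgEquivOfSurjective hπ).symm_apply_eq.2 rfl]
  rfl

set_option maxHeartbeats 400000 in
/-- **The torus bound.** Without a closed `𝔾ₘ`, diagonalisable points have bounded order. -/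
theorem GenMatrix.exists_bound (hC : GenMatrix (k := k) N C)
    (hno : ∀ φ : A →ₐc[k] MonoidAlgebra k (Multiplicative ℤ), ¬ Function.Surjective φ) :
    ∃ M : ℕ, 0 < M ∧ ∀ (g : A →ₐ[k] k) (P Q : Matrix (Fin N) (Fin N) k) (t : Fin N → k),
      Q * P = 1 → C.map g = P * Matrix.diagonal t * Q → ∀ i, t i ^ M = 1 := by
  classical
  let π : MvPolynomial (Fin N × Fin N) k →ₐ[k] A := MvPolynomial.aeval fun p => C p.1 p.2
  have hπ : Function.Surjective π := by
    rw [← AlgHom.range_eq_top, eq_top_iff, ← hC.adjoin, Algebra.adjoin_le_iff]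
    rintro _ ⟨p, rfl⟩
    exact ⟨MvPolynomial.X p, MvPolynomial.aeval_X _ _⟩
  obtain ⟨s, hs⟩ := IsNoetherian.noetherian (RingHom.ker π)
  let univ : MvPolynomial (Fin N × Fin N) k →ₐ[k]
      MvPolynomial (Fin N) (MvPolynomial ((Fin N × Fin N) ⊕ (Fin N × Fin N)) k) := MvPolynomial.aeval fun p =>
    ∑ l, MvPolynomial.C (MvPolynomial.X (Sum.inl (p.1, l))) * MvPolynomial.X l *
      MvPolynomial.C (MvPolynomial.X (Sum.inr (l, p.2)))
  let Supp : Finset (Fin N →₀ ℕ) := s.biUnion fun f => (univ f).support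
  let Lat : Finset ((Fin N →₀ ℕ) × (Fin N →₀ ℕ)) → Submodule ℤ (Fin N → ℤ) := fun R =>
    Submodule.span ℤ ((fun m : (Fin N →₀ ℕ) × (Fin N →₀ ℕ) => fun j => (m.1 j : ℤ) - (m.2 j : ℤ)) '' (↑R : Set ((Fin N →₀ ℕ) × (Fin N →₀ ℕ))))
  let Good : Finset ((Fin N →₀ ℕ) × (Fin N →₀ ℕ)) → Prop := fun R =>
    ∃ e : ℕ, 0 < e ∧ ∀ i, (e : ℤ) • (Pi.single i 1 : Fin N → ℤ) ∈ Lat R
  let expo : Finset ((Fin N →₀ ℕ) × (Fin N →₀ ℕ)) → ℕ := fun R => if h : Good R then h.choose else 1
  refine ⟨∏ R ∈ (Supp ×ˢ Supp).powerset, expo R, Finset.prod_pos fun R _ => ?_, fun g P Q t hQP hg => ?_⟩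
  · simp only [expo]
    split_ifs with h
    exacts [h.choose_spec.1, Nat.one_pos]
  have hPQ : P * Q = 1 := mul_eq_one_comm.1 hQP
  let gc : WithConv (A →ₐ[k] k) := WithConv.toConv g
  have hpow : ∀ n : ℕ, C.map (gc ^ n).ofConv = P * Matrix.diagonal (fun i => t i ^ n) * Q := by
    intro n
    rw [hC.map_conv_pow]
    show C.map g ^ n = _
    induction n with
    | zero => simp [hPQ]
    | succ n ih =>
      rw [pow_succ, ih, hg, show P * Matrix.diagonal (fun i => t i ^ n) * Q * (P * Matrix.diagonal t * Q) =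
        P * Matrix.diagonal (fun i => t i ^ n) * (Q * P) * Matrix.diagonal t * Q by simp only [Matrix.mul_assoc],
        hQP, Matrix.mul_one, Matrix.mul_assoc P, Matrix.diagonal_mul_diagonal]
      simp_rw [← pow_succ]
  have ht : ∀ i, t i ≠ 0 := by
    intro i hi
    have h2 : C.map (gc * WithConv.toConv (g.comp (HopfAlgebra.antipodeAlgHom k A))).ofConv = 1 := by
      rw [show gc * WithConv.toConv (g.comp (HopfAlgebra.antipodeAlgHom k A)) = 1 from ?_, hC.map_counit]
      refine WithConv.ofConv_injective (AlgHom.ext fun a => ?_)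
      rw [AlgHom.convMul_apply, AlgHom.convOne_def]
      have h := congrArg g (HopfAlgebra.mul_antipode_lTensor_comul_apply (R := k) a)
      rw [AlgHom.commutes] at h
      refine Eq.trans ?_ h
      generalize CoalgebraStruct.comul (R := k) a = z
      induction z using TensorProduct.induction_on with
      | zero => simp
      | tmul x y => simp [gc]
      | add x y hx hy => simp only [map_add, hx, hy]
    rw [hC.map_conv] at h2
    have h3 := congrArg Matrix.det h2
    rw [Matrix.det_mul, Matrix.det_one, show gc.ofConv = g from rfl, hg, Matrix.det_mul, Matrix.det_mul,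
      Matrix.det_diagonal, Finset.prod_eq_zero (Finset.mem_univ i) hi] at h3
    simp at h3
  let R₀ := (Supp ×ˢ Supp).filter fun m => ∏ i, t i ^ (m.1 i) = ∏ i, t i ^ (m.2 i)
  have hgood : Good R₀ := by
    rcases exists_pow_or_functional N (Lat R₀) with h | ⟨φ, hφ, d, hd⟩
    · exact h
    exfalso
    let R := MonoidAlgebra k (Multiplicative ℤ)
    let lam : Fin N → ℤ := fun i => φ (Pi.single i 1)
    have hφeq : ∀ d : Fin N → ℤ, φ d = ∑ i, d i * lam i := fun d => by
      conv_lhs => rw [pi_eq_sum_univ' d]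
      rw [map_sum]
      exact Finset.sum_congr rfl fun i _ => (map_smul φ (d i) _).trans (smul_eq_mul _ _)
    let u : Fin N → R := fun i => MonoidAlgebra.single (Multiplicative.ofAdd (lam i)) (1 : k)
    let MR := P.map (algebraMap k R) * Matrix.diagonal u * Q.map (algebraMap k R)
    have hemprod := fun m : Fin N →₀ ℕ => prod_single_pow (k := k) lam m
    have hker : RingHom.ker π ≤ RingHom.ker (MvPolynomial.aeval fun p : Fin N × Fin N => MR p.1 p.2 :
        MvPolynomial (Fin N × Fin N) k →ₐ[k] R) := by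
      rw [← hs, Submodule.span_le]
      intro f hf
      let q : MvPolynomial (Fin N) k := MvPolynomial.mapAlgHom (σ := Fin N)
        (MvPolynomial.aeval (Sum.elim (fun p => P p.1 p.2) fun p => Q p.1 p.2) :
          MvPolynomial ((Fin N × Fin N) ⊕ (Fin N × Fin N)) k →ₐ[k] k) (univ f)
      have hsupp : q.support ⊆ Supp := fun m hm =>
        Finset.mem_biUnion.2 ⟨f, hf, MvPolynomial.support_map_subset _ _ hm⟩
      have hfker : π f = 0 := RingHom.mem_ker.1 (hs.le (Submodule.subset_span hf))
      show MvPolynomial.aeval (fun p : Fin N × Fin N => MR p.1 p.2) f = 0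
      rw [← aeval_specialise P Q u f]
      refine aeval_eq_zero_of_forall_pow q t (fun n => ?_) u fun m hm m' hm' hmm' => ?_
      · refine (aeval_specialise P Q (fun i => t i ^ n) f).trans ?_
        have hid : ∀ X : Matrix (Fin N) (Fin N) k, X.map (algebraMap k k) = X := fun X => Matrix.ext fun a b => rfl
        rw [hid, hid, ← hpow n]
        show MvPolynomial.aeval (fun p : Fin N × Fin N => (gc ^ n).ofConv (C p.1 p.2)) f = 0
        rw [← MvPolynomial.comp_aeval_apply, show MvPolynomial.aeval _ f = π f from rfl, hfker, map_zero]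
      · rw [hemprod, hemprod]
        congr 2
        have hmem : (m, m') ∈ R₀ := Finset.mem_filter.2 ⟨Finset.mem_product.2 ⟨hsupp hm, hsupp hm'⟩, hmm'⟩
        have h0 := hφ _ (Submodule.subset_span ⟨(m, m'), hmem, rfl⟩)
        rw [hφeq] at h0
        simp only [sub_mul, Finset.sum_sub_distrib] at h0
        exact sub_eq_zero.1 h0
    obtain ⟨ψ, hψ'⟩ := exists_factor_of_surjective π hπ _ hker
    have hψ : ∀ i j, ψ (C i j) = MR i j := fun i j => by
      have := hψ' (MvPolynomial.X (i, j))
      exact ((congrArg ψ (MvPolynomial.aeval_X _ _)).symm.trans this).trans (MvPolynomial.aeval_X _ _)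
    obtain ⟨Φ, hΦ⟩ := hC.exists_surjective_Gm hQP lam ⟨d, by rw [← hφeq]; exact hd⟩ ψ (Matrix.ext fun i j => by rw [Matrix.map_apply, hψ])
    exact hno Φ hΦ
  intro i
  obtain ⟨e', he'⟩ := Finset.dvd_prod_of_mem expo (Finset.mem_powerset.2 (Finset.filter_subset _ _) :
    R₀ ∈ (Supp ×ˢ Supp).powerset)
  have hexp : expo R₀ = hgood.choose := by simp only [expo]; rw [dif_pos hgood]
  have h2 : t i ^ hgood.choose = 1 :=
    pow_eq_one_of_mem ht _ (fun m hm => (Finset.mem_filter.1 hm).2) _ i (hgood.choose_spec.2 i)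
  rw [he', hexp, pow_mul, h2, one_pow]

end

end Groth.Agent.H20Torus
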