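import Groth.Agent.H20Torus.Fixed

/-!
Stable subspaces of algebras with a group action: nilpotents, annihilators, denominators of invariant fractions.
-/

set_option autoImplicit false
set_option linter.style.haveILetI false
set_option linter.unusedSectionVars false
set_option backward.isDefEq.respectTransparency false

universe u

open CategoryTheory AlgebraicGeometry
open scoped TensorProduct

namespace Groth.Agent.H20Torus

noncomputable section

variable {k : Type u} [Field k] [IsAlgClosed k] {B A : Type u} [CommRing B] [IsDomain B] [Algebra k B]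
  [Algebra.FiniteType k B] [CommRing A] [Algebra k A]

/-- Reduction modulo an ideal of the second factor. -/
abbrev red (P : Ideal A) : B ⊗[k] A →ₐ[k] B ⊗[k] (A ⧸ P) :=
  Algebra.TensorProduct.map (AlgHom.id k B) (Ideal.Quotient.mkₐ k P)

omit [IsDomain B] [Algebra.FiniteType k B] in
/-- Slices of an element vanishing modulo an ideal lie in it. -/
theorem slice_mem_of_red_eq_zero {P : Ideal A} {z : B ⊗[k] A} (hz : red P z = 0) (ℓ : B →ₗ[k] k) :
    TensorProduct.lid k A (ℓ.rTensor A z) ∈ P := by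
  rw [← Ideal.Quotient.eq_zero_iff_mem]
  have h : ∀ t : B ⊗[k] A, Ideal.Quotient.mk P (TensorProduct.lid k A (ℓ.rTensor A t)) =
      TensorProduct.lid k (A ⧸ P) (ℓ.rTensor (A ⧸ P) (red P t)) := by
    intro t
    induction t using TensorProduct.induction_on with
    | zero => simp
    | tmul p q => simp [Algebra.smul_def]
    | add u v hu hv => simp only [map_add, hu, hv]
  rw [h, hz, map_zero, map_zero]

/-- Nilpotent tensors have nilpotent slices. -/
theorem slice_mem_nilradical {z : B ⊗[k] A} (hz : IsNilpotent z) (ℓ : B →ₗ[k] k) :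
    TensorProduct.lid k A (ℓ.rTensor A z) ∈ nilradical A := by
  rw [nilradical_eq_sInf, Ideal.mem_sInf]
  intro P hP
  haveI : P.IsPrime := hP
  haveI := H19Grp.isDomain_tensorProduct (k := k) B (A ⧸ P)
  exact slice_mem_of_red_eq_zero (hz.map (red P)).eq_zero ℓ

variable {G : Over (Spec (CommRingCat.of k))} [GrpObj G] (ρ : VecGrp.GMod G A) (hρ : ρ.IsMult)
  (g : VecGrp.pt k B ⟶ G) (φ : B →ₐ[k] k)
  (hφ : ∀ x : A, VecGrp.Wmap φ (ρ.ρ B g ((1 : B) ⊗ₜ[k] x)) = (1 : k) ⊗ₜ[k] x)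

include hρ in
theorem gmod_map_mul (x y : A) : ρ.ρ B g ((1 : B) ⊗ₜ[k] (x * y)) =
    ρ.ρ B g ((1 : B) ⊗ₜ[k] x) * ρ.ρ B g ((1 : B) ⊗ₜ[k] y) := by
  rw [← (hρ B g).1, Algebra.TensorProduct.tmul_mul_tmul, _root_.one_mul]

include hρ in
theorem isNilpotent_gmod {x : A} (hx : IsNilpotent x) : IsNilpotent (ρ.ρ B g ((1 : B) ⊗ₜ[k] x)) := by
  obtain ⟨n, hn⟩ := hx
  refine ⟨n + 1, ?_⟩
  have h : ∀ m : ℕ, (ρ.ρ B g ((1 : B) ⊗ₜ[k] x)) ^ (m + 1) = ρ.ρ B g ((1 : B) ⊗ₜ[k] (x ^ (m + 1))) := by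
    intro m
    induction m with
    | zero => simp
    | succ m ih => rw [pow_succ, ih, pow_succ x (m + 1), gmod_map_mul ρ hρ g]
  rw [h, pow_succ, hn, zero_mul, TensorProduct.tmul_zero, map_zero]

include hρ hφ in
/-- In a reduced algebra the annihilator of an element is stable. -/
theorem gmod_mul_one_tmul_eq_zero [_root_.IsReduced A] {a b : A} (hab : a * b = 0) :
    ρ.ρ B g ((1 : B) ⊗ₜ[k] a) * ((1 : B) ⊗ₜ[k] b) = 0 := by
  let z := ρ.ρ B g ((1 : B) ⊗ₜ[k] a) * ((1 : B) ⊗ₜ[k] b)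
  have hsl : ∀ ℓ : B →ₗ[k] k, TensorProduct.lid k A (ℓ.rTensor A z) = 0 := by
    intro ℓ
    refine (show IsNilpotent _ from ?_).eq_zero
    rw [← mem_nilradical, nilradical_eq_sInf, Ideal.mem_sInf]
    intro P hP
    haveI : P.IsPrime := hP
    haveI := H19Grp.isDomain_tensorProduct (k := k) B (A ⧸ P)
    refine slice_mem_of_red_eq_zero ?_ ℓ
    have hmul : red P (ρ.ρ B g ((1 : B) ⊗ₜ[k] a)) * red P (ρ.ρ B g ((1 : B) ⊗ₜ[k] b)) = 0 := by
      rw [← map_mul, ← gmod_map_mul ρ hρ g, hab, TensorProduct.tmul_zero, map_zero, map_zero]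
    show red P (_ * _) = 0
    rw [map_mul]
    rcases mul_eq_zero.1 hmul with h | h
    · rw [h, zero_mul]
    have hb : b ∈ P := by
      have h1 := congrArg (fun t => TensorProduct.lid k (A ⧸ P) (φ.toLinearMap.rTensor (A ⧸ P) t)) h
      have h2 : ∀ t : B ⊗[k] A, TensorProduct.lid k (A ⧸ P) (φ.toLinearMap.rTensor (A ⧸ P) (red P t)) =
          Ideal.Quotient.mk P (TensorProduct.lid k A (VecGrp.Wmap φ t)) := by
        intro t
        induction t using TensorProduct.induction_on with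
        | zero => simp
        | tmul p q => simp [Algebra.smul_def]
        | add u v hu hv => simp only [map_add, hu, hv]
      rw [h2, hφ, TensorProduct.lid_tmul, one_smul, map_zero, map_zero] at h1
      exact Ideal.Quotient.eq_zero_iff_mem.1 h1
    rw [show red P ((1 : B) ⊗ₜ[k] b) = 0 by
      rw [Algebra.TensorProduct.map_tmul, show Ideal.Quotient.mkₐ k P b = 0 from Ideal.Quotient.eq_zero_iff_mem.2 hb,
        TensorProduct.tmul_zero], mul_zero]
  exact (Submodule.mem_bot (R := k)).1 (by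
    have h0 := mem_baseChange_of_forall_slice (M := A) (W := (⊥ : Submodule k A)) (z := z)
      fun ℓ => (Submodule.mem_bot k).2 (hsl ℓ)
    rwa [Submodule.baseChange_bot, Submodule.mem_bot, ← Submodule.mem_bot (R := k)] at h0)

include hρ hφ in
/-- Denominators of an invariant fraction form a stable subspace. -/
theorem gmod_mul_eq_of_invariant_fraction [IsDomain A] {a₀ b₀ b c : A} (hb₀ : b₀ ≠ 0) (hbc : b * a₀ = c * b₀)
    (hinv : ρ.ρ B g ((1 : B) ⊗ₜ[k] a₀) * ((1 : B) ⊗ₜ[k] b₀) = ((1 : B) ⊗ₜ[k] a₀) * ρ.ρ B g ((1 : B) ⊗ₜ[k] b₀)) :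
    ρ.ρ B g ((1 : B) ⊗ₜ[k] b) * ((1 : B) ⊗ₜ[k] a₀) = ρ.ρ B g ((1 : B) ⊗ₜ[k] c) * ((1 : B) ⊗ₜ[k] b₀) := by
  haveI := H19Grp.isDomain_tensorProduct (k := k) B A
  have hne : ρ.ρ B g ((1 : B) ⊗ₜ[k] b₀) ≠ 0 := by
    intro h
    have h1 := hφ b₀
    rw [h, map_zero] at h1
    have h2 := congrArg (TensorProduct.lid k A) h1
    rw [map_zero, TensorProduct.lid_tmul, one_smul] at h2
    exact hb₀ h2.symm
  refine mul_right_cancel₀ hne ?_
  rw [_root_.mul_assoc, ← hinv, ← _root_.mul_assoc, ← gmod_map_mul ρ hρ g, hbc, gmod_map_mul ρ hρ g, mul_right_comm]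

end

end Groth.Agent.H20Torus
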