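import Groth.Agent.H20Torus.Gm
import Groth.Agent.S5423
import Mathlib.LinearAlgebra.Eigenspace.Semisimple

/-!
A connected affine group variety without a closed `𝔾ₘ` is unipotent (any characteristic).

Semisimple parts of points have bounded order, so the characteristic polynomial takes finitely many values on a
connected variety, hence is constant.
-/

set_option autoImplicit false
set_option linter.style.haveILetI false
set_option linter.unusedSectionVars false

universe u

open TensorProduct HopfRep Module
open Groth.Agent.H20Comod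

namespace Groth.Agent.H20Torus

noncomputable section

variable {k : Type u} [Field k] {A : Type u} [CommRing A] [HopfAlgebra k A]
variable {V : Type u} [AddCommGroup V] [Module k V] [Comod k A V]

/-- The coefficient matrix of a comodule in a basis. -/
abbrev cmat {ι : Type*} (b : Basis ι k V) : Matrix ι ι A :=
  Matrix.of fun i j => sliceL (b.coord i) (Comod.coact (k := k) (A := A) (b j))

theorem toMatrix_actL {N : ℕ} (b : Basis (Fin N) k V) (φ : A →ₗ[k] k) :
    LinearMap.toMatrix b b (actL φ) = (cmat b).map φ := by
  refine Matrix.ext fun i j => ?_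
  rw [LinearMap.toMatrix_apply]
  exact (apply_coeff φ (b.coord i) (b j)).symm

/-- A semisimple endomorphism over an algebraically closed field is diagonalisable. -/
theorem exists_diagonal [IsAlgClosed k] [FiniteDimensional k V] {N : ℕ} (b : Basis (Fin N) k V) {f : End k V}
    (hf : f.IsSemisimple) : ∃ (b' : Basis (Fin N) k V) (t : Fin N → k), ∀ i, f (b' i) = t i • b' i := by
  classical
  have htop : ⨆ μ, f.eigenspace μ = ⊤ := by
    rw [← End.iSup_maxGenEigenspace_eq_top f]
    exact iSup_congr fun μ => (hf.isFinitelySemisimple.maxGenEigenspace_eq_eigenspace μ).symm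
  have hint : DirectSum.IsInternal fun μ => f.eigenspace μ :=
    DirectSum.isInternal_submodule_of_iSupIndep_of_iSup_eq_top f.eigenspaces_iSupIndep htop
  let B := hint.collectedBasis fun μ => Module.finBasis k (f.eigenspace μ)
  let e := B.indexEquiv b
  refine ⟨B.reindex e, fun i => (e.symm i).1, fun i => ?_⟩
  rw [Basis.reindex_apply]
  exact End.mem_eigenspace_iff.1 (hint.collectedBasis_mem _ (e.symm i))

variable {N : ℕ} (b : Basis (Fin N) k V)

theorem actL_pow (g : WithConv (A →ₐ[k] k)) :
    ∀ n : ℕ, (actL (g ^ n).ofConv.toLinearMap : End k V) = (actL g.ofConv.toLinearMap : End k V) ^ n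
  | 0 => LinearMap.ext fun v => by rw [pow_zero, pow_zero, AlgHom.convOne_def]; exact actL_counit v
  | n + 1 => LinearMap.ext fun v => by rw [pow_succ, pow_succ, Module.End.mul_apply, actL_mul, actL_pow g n]

/-- Without a closed `𝔾ₘ` the semisimple parts of points are killed by a fixed power. -/
theorem exists_semiPt_pow_eq_one [IsAlgClosed k] [Module.Finite k V] (hb : GenMatrix (k := k) N (cmat (A := A) b))
    (hno : ∀ φ : A →ₐc[k] MonoidAlgebra k (Multiplicative ℤ), ¬ Function.Surjective φ) :
    ∃ M : ℕ, 0 < M ∧ ∀ g : A →ₐ[k] k, (WithConv.toConv (semiPt g)) ^ M = 1 := by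
  obtain ⟨M, hM, hbd⟩ := hb.exists_bound hno
  refine ⟨M, hM, fun g => ?_⟩
  obtain ⟨b', t, ht⟩ := exists_diagonal b (isJordan_actL (V := V) g).semisimple
  let P := b.toMatrix b'
  let Q := b'.toMatrix b
  have hQP : Q * P = 1 := b'.toMatrix_mul_toMatrix_flip b
  have hd : LinearMap.toMatrix b' b' (actL (semiPt g).toLinearMap : End k V) = Matrix.diagonal t := by
    refine Matrix.ext fun i j => ?_
    rw [LinearMap.toMatrix_apply, ht, map_smul, Basis.repr_self, Finsupp.smul_single, smul_eq_mul, mul_one,
      Matrix.diagonal_apply, Finsupp.single_apply]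
    rcases eq_or_ne i j with rfl | h
    · simp
    · simp [h, Ne.symm h]
  have hg : (cmat b).map (semiPt g) = P * Matrix.diagonal t * Q := by
    rw [← hd, basis_toMatrix_mul_linearMap_toMatrix_mul_basis_toMatrix]
    exact (toMatrix_actL b (semiPt g).toLinearMap).symm
  refine WithConv.ofConv_injective (AlgHom.ext_of_adjoin_eq_top hb.adjoin fun x hx => ?_)
  obtain ⟨⟨i, j⟩, rfl⟩ := hx
  have h1 : (cmat b).map (WithConv.toConv (semiPt g) ^ M).ofConv = 1 := by
    rw [hb.map_conv_pow]
    show (cmat b).map (semiPt g) ^ M = 1
    have hpow : ∀ n : ℕ, (cmat b).map (semiPt g) ^ n = P * Matrix.diagonal (fun i => t i ^ n) * Q := by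
      intro n
      induction n with
      | zero => simp [mul_eq_one_comm.1 hQP]
      | succ n ih =>
        rw [pow_succ, ih, hg, show P * Matrix.diagonal (fun i => t i ^ n) * Q * (P * Matrix.diagonal t * Q) =
          P * Matrix.diagonal (fun i => t i ^ n) * (Q * P) * Matrix.diagonal t * Q by simp only [Matrix.mul_assoc],
          hQP, Matrix.mul_one, Matrix.mul_assoc P, Matrix.diagonal_mul_diagonal]
        simp_rw [← pow_succ]
    rw [hpow]
    simp only [hbd _ P Q t hQP hg]
    rw [Matrix.diagonal_one, Matrix.mul_one, mul_eq_one_comm.1 hQP]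
  have h2 : (cmat b).map (1 : WithConv (A →ₐ[k] k)).ofConv = 1 := hb.map_counit
  exact congrFun (congrFun (h1.trans h2.symm) i) j

/-- Elements killed by a product of differences with constants are constant in a domain. -/
theorem eq_algebraMap_of_finite_values [IsAlgClosed k] [IsDomain A] [Algebra.FiniteType k A] (a : A) (S : Finset k)
    (h : ∀ φ : A →ₐ[k] k, φ a ∈ S) : ∃ c : k, a = algebraMap k A c := by
  classical
  have hprod : ∏ c ∈ S, (a - algebraMap k A c) = 0 := H20Hopf.Rosenlicht.point_ext (k := k) fun φ => by
    rw [map_prod]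
    exact Finset.prod_eq_zero (h φ) (by simp)
  obtain ⟨c, -, hc⟩ := Finset.prod_eq_zero_iff.1 hprod
  exact ⟨c, sub_eq_zero.1 hc⟩

/-- **A connected group variety without a closed `𝔾ₘ` is unipotent.** -/
theorem isUnipotent_of_forall_not_surjective [IsAlgClosed k] [IsDomain A] [Algebra.FiniteType k A]
    (hno : ∀ φ : A →ₐc[k] MonoidAlgebra k (Multiplicative ℤ), ¬ Function.Surjective φ) :
    HopfRep.IsUnipotent k A := by
  classical
  obtain ⟨V, _, _, _, _, N, b, hb⟩ := exists_genMatrix (k := k) (A := A)
  obtain ⟨M, hM, hs⟩ := exists_semiPt_pow_eq_one b hb hno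
  let C : Matrix (Fin N) (Fin N) A := cmat b
  let roots : Finset k := (Polynomial.nthRoots M (1 : k)).toFinset
  let vals : Finset (Polynomial k) := (roots.sym N).image fun s : Sym k N => ((s : Multiset k).map fun r => Polynomial.X - Polynomial.C r).prod
  have hval : ∀ g : A →ₐ[k] k, (C.map g).charpoly ∈ vals := by
    intro g
    have hsplit := IsAlgClosed.splits (C.map g).charpoly
    have hcard : (C.map g).charpoly.roots.card = N := by
      rw [Polynomial.splits_iff_card_roots.1 hsplit, Matrix.charpoly_natDegree_eq_dim, Fintype.card_fin]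
    refine Finset.mem_image.2 ⟨(⟨(C.map g).charpoly.roots, hcard⟩ : Sym k N), Finset.mem_sym_iff.2 fun μ hμ => ?_, ?_⟩
    · rw [Multiset.mem_toFinset, Polynomial.mem_nthRoots hM]
      have hμ' : End.HasEigenvalue (actL g.toLinearMap : End k V) μ := by
        rw [End.hasEigenvalue_iff_isRoot_charpoly, ← LinearMap.charpoly_toMatrix _ b, toMatrix_actL]
        exact Polynomial.isRoot_of_mem_roots hμ
      obtain ⟨v, hv⟩ := hμ'.exists_hasEigenvector
      have hJ := isJordan_actL (V := V) g
      have h1 : (actL g.toLinearMap : End k V) ^ M = (actL (unipPt g).toLinearMap : End k V) ^ M := by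
        rw [← hJ.eq, hJ.comm.mul_pow]
        rw [show (actL (semiPt g).toLinearMap : End k V) ^ M = 1 from ?_, one_mul]
        rw [show semiPt g = (WithConv.toConv (semiPt g)).ofConv from rfl, ← actL_pow, hs g, AlgHom.convOne_def]
        exact LinearMap.ext fun v => actL_counit v
      obtain ⟨n, hn⟩ : IsNilpotent ((actL g.toLinearMap : End k V) ^ M - 1) := by
        rw [h1]
        conv => arg 1; arg 2; rw [← one_pow M]
        rw [← (Commute.one_right _).geom_sum₂_mul M]
        exact Commute.isNilpotent_mul_left (Commute.sum_left _ _ _ fun i _ => by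
          rw [one_pow, mul_one]
          exact ((Commute.refl _).sub_right (Commute.one_right _)).pow_left i) hJ.unipotent
      have h2 : (((actL g.toLinearMap : End k V) ^ M - 1) ^ n) v = (μ ^ M - 1) ^ n • v := by
        have hstep : ∀ n, (((actL g.toLinearMap : End k V) ^ M - 1) ^ n) v = (μ ^ M - 1) ^ n • v := by
          intro n
          induction n with
          | zero => simp
          | succ n ih =>
            rw [pow_succ', Module.End.mul_apply, ih, map_smul, LinearMap.sub_apply, hv.pow_apply, Module.End.one_apply,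
              show μ ^ M • v - v = (μ ^ M - 1) • v by rw [sub_smul, one_smul], smul_smul, pow_succ]
        exact hstep n
      rw [hn, LinearMap.zero_apply, eq_comm, smul_eq_zero] at h2
      exact sub_eq_zero.1 (eq_zero_of_pow_eq_zero (h2.resolve_right hv.2))
    · exact (Polynomial.Splits.eq_prod_roots_of_monic hsplit (Matrix.charpoly_monic _)).symm
  have hcp : C.charpoly = (Polynomial.X - 1) ^ N := by
    refine Polynomial.ext fun n => ?_
    obtain ⟨c, hc⟩ := eq_algebraMap_of_finite_values (k := k) (C.charpoly.coeff n) (vals.image fun p => p.coeff n)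
      fun φ => Finset.mem_image.2 ⟨_, hval φ, by
        rw [show C.map φ = C.map (φ : A →+* k) from rfl, Matrix.charpoly_map, Polynomial.coeff_map]; rfl⟩
    have h1 : (C.map (1 : WithConv (A →ₐ[k] k)).ofConv).charpoly.coeff n = c := by
      rw [show C.map (1 : WithConv (A →ₐ[k] k)).ofConv = C.map ((1 : WithConv (A →ₐ[k] k)).ofConv : A →+* k) from rfl,
        Matrix.charpoly_map, Polynomial.coeff_map, hc]
      exact (1 : WithConv (A →ₐ[k] k)).ofConv.commutes c
    rw [hb.map_counit, Matrix.charpoly_one, Fintype.card_fin] at h1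
    rw [hc, ← h1, show ((Polynomial.X - 1) ^ N : Polynomial A) = ((Polynomial.X - 1) ^ N : Polynomial k).map (algebraMap k A) by
      simp, Polynomial.coeff_map]
  have hsemi : ∀ g : A →ₐ[k] k, semiPt g = (1 : WithConv (A →ₐ[k] k)).ofConv := by
    intro g
    have hnil : IsNilpotent ((actL g.toLinearMap : End k V) - 1) := by
      refine ⟨N, (LinearMap.toMatrixAlgEquiv b).injective ?_⟩
      rw [map_pow, map_sub, map_one, map_zero,
        show LinearMap.toMatrixAlgEquiv b (actL g.toLinearMap : End k V) = C.map g from toMatrix_actL b g.toLinearMap]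
      have h := Matrix.aeval_self_charpoly (C.map (g : A →+* k))
      rw [Matrix.charpoly_map, hcp, Polynomial.map_pow, Polynomial.map_sub, Polynomial.map_X, Polynomial.map_one,
        map_pow, map_sub, Polynomial.aeval_X, map_one] at h
      exact h
    have hu : IsUnit (actL g.toLinearMap : End k V) :=
      (LinearMap.isUnit_iff_ker_eq_bot _).2 (LinearMap.ker_eq_bot.2 (actL_point_injective g))
    have h1 : IsJordan (actL g.toLinearMap : End k V) 1 (actL g.toLinearMap) :=
      ⟨End.isSemisimple_id, hnil, Commute.one_left _, one_mul _⟩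
    have h := ((isJordan_actL (V := V) g).natural h1 hu hu (f := LinearMap.id) fun _ => rfl).1
    refine AlgHom.ext_of_adjoin_eq_top hb.adjoin fun x hx => ?_
    obtain ⟨⟨i, j⟩, rfl⟩ := hx
    have h2 : (cmat b).map (semiPt g) = (cmat b).map (1 : WithConv (A →ₐ[k] k)).ofConv := by
      rw [hb.map_counit]
      refine (toMatrix_actL b (semiPt g).toLinearMap).symm.trans ?_
      rw [show (actL (semiPt g).toLinearMap : End k V) = 1 from LinearMap.ext fun v => h v]
      exact LinearMap.toMatrix_id b
    exact congrFun (congrFun h2 i) j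
  refine (S5423.result k A).2 fun g W _ _ _ hW => ?_
  have hJ := isJordan_actL (V := W) g
  have hs1 : (actL (semiPt g).toLinearMap : End k W) = 1 := by
    rw [hsemi, AlgHom.convOne_def]
    exact LinearMap.ext fun v => actL_counit v
  have heq : (actL g.toLinearMap : End k W) = actL (unipPt g).toLinearMap := by rw [← hJ.eq, hs1, one_mul]
  have : HopfRep.Comod.act k A W g = (actL g.toLinearMap : End k W) := LinearMap.ext (act_eq_actL g)
  rw [this, heq]
  exact hJ.unipotent

end

end Groth.Agent.H20Torus
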